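import Mathlib
import Groth.Prelude.Def_SheafNL
import Groth.Agent.Lib.Helper7.NLBC.Main

/-! helper5: the kernel of the base change map on `H^{-1}` of naive cotangent complexes:
pre-composition maps, same-variable presentations on an index type in `Type`, and the transfer
of finiteness/projectivity of the kernel between presentations (towards S7223). -/

set_option linter.style.haveILetI false
set_option linter.unusedVariables false
set_option linter.unusedSectionVars false

open CategoryTheory CategoryTheory.Limits TensorProduct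

namespace Groth.Agent.Lib.Helper5.NLKer

universe u

section Pre

open Algebra.Extension

variable {R S : Type u} [CommRing R] [CommRing S] [Algebra R S]
  {P Q T : Algebra.Extension.{u} R S} (S' : Type u) [CommRing S'] [Algebra S S']

theorem pre_key (v : P.Hom Q) :
    Q.cotangentComplex.baseChange S' ∘ₗ (Cotangent.map v).baseChange S' =
      (CotangentSpace.map v).baseChange S' ∘ₗ P.cotangentComplex.baseChange S' := by
  rw [← LinearMap.baseChange_comp, ← LinearMap.baseChange_comp]
  congr 1
  ext y
  exact (CotangentSpace.map_cotangentComplex v y).symm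

/-- The map `H^{-1}(NL(P) ⊗ S') → H^{-1}(NL(Q) ⊗ S')` induced by a morphism of extensions of
`S` over `R`. -/
noncomputable def bcH1Pre (v : P.Hom Q) : NLCx.bcH1 P S' →ₗ[S'] NLCx.bcH1 Q S' :=
  ((Cotangent.map v).baseChange S').restrict (p := NLCx.bcH1 P S') (q := NLCx.bcH1 Q S')
    (fun x hx => by
      simp only [NLCx.bcH1, LinearMap.mem_ker] at hx ⊢
      have := congr($(pre_key S' v) x)
      simp only [LinearMap.coe_comp, Function.comp_apply, hx, map_zero] at this
      exact this)

theorem bcH1Pre_val (v : P.Hom Q) (x : NLCx.bcH1 P S') :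
    (bcH1Pre S' v x).1 = (Cotangent.map v).baseChange S' x.1 := rfl

theorem bcH1Pre_eq (f g : P.Hom Q) : bcH1Pre S' f = bcH1Pre S' g := by
  have key : (Cotangent.map f).baseChange S' - (Cotangent.map g).baseChange S' =
      (f.sub g).baseChange S' ∘ₗ P.cotangentComplex.baseChange S' := by
    rw [← LinearMap.baseChange_sub, ← LinearMap.baseChange_comp, Cotangent.map_sub_map]
  refine LinearMap.ext (fun x => Subtype.ext ?_)
  change (Cotangent.map f).baseChange S' x.1 = (Cotangent.map g).baseChange S' x.1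
  rw [← sub_eq_zero, ← LinearMap.sub_apply, key, LinearMap.comp_apply]
  have hx : P.cotangentComplex.baseChange S' x.1 = 0 := x.2
  rw [hx, map_zero]

theorem bcH1Pre_id (x : NLCx.bcH1 P S') : bcH1Pre S' (Hom.id P) x = x := by
  apply Subtype.ext
  rw [bcH1Pre_val, Cotangent.map_id, LinearMap.baseChange_id]
  rfl

theorem bcH1Pre_comp (f : P.Hom Q) (g : Q.Hom T) (x : NLCx.bcH1 P S') :
    bcH1Pre S' (g.comp f) x = bcH1Pre S' g (bcH1Pre S' f x) := by
  apply Subtype.ext
  rw [bcH1Pre_val, bcH1Pre_val, bcH1Pre_val, Cotangent.map_comp]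
  have e : ((Cotangent.map g).restrictScalars S ∘ₗ Cotangent.map f) =
      (Cotangent.map g) ∘ₗ (Cotangent.map f) := rfl
  rw [e, LinearMap.baseChange_comp]
  rfl

variable {S'} {R' : Type u} [CommRing R'] [Algebra R' S'] [Algebra R R'] [Algebra R S']
  [IsScalarTower R R' S'] [IsScalarTower R S S'] {P' Q' : Algebra.Extension.{u} R' S'}

theorem bcH1Map_comp_pre (v : P.Hom Q) (f : Q.Hom P') (x : NLCx.bcH1 P S') :
    NLCx.bcH1Map (f.comp v) x = NLCx.bcH1Map f (bcH1Pre S' v x) := by
  apply Subtype.ext
  change LinearMap.liftBaseChange S' (Cotangent.map (f.comp v)) x.1 =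
    LinearMap.liftBaseChange S' (Cotangent.map f) ((Cotangent.map v).baseChange S' x.1)
  have key : LinearMap.liftBaseChange S' (Cotangent.map (f.comp v)) =
      LinearMap.liftBaseChange S' (Cotangent.map f) ∘ₗ (Cotangent.map v).baseChange S' := by
    refine TensorProduct.AlgebraTensorModule.ext (fun s c => ?_)
    rw [LinearMap.liftBaseChange_tmul, LinearMap.comp_apply, LinearMap.baseChange_tmul,
      LinearMap.liftBaseChange_tmul, Cotangent.map_comp]
    rfl
  rw [key]
  rfl

/-- Transfer of finiteness and projectivity of the kernel of `bcH1Map` between presentations. -/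
theorem transfer (f : P.Hom P') (g : Q.Hom Q') (a : P.Hom Q) (b : Q.Hom P)
    (w : P'.Hom Q') (w' : Q'.Hom P')
    [Module.Finite S' (LinearMap.ker (NLCx.bcH1Map f))]
    [Module.Projective S' (LinearMap.ker (NLCx.bcH1Map f))] :
    Module.Finite S' (LinearMap.ker (NLCx.bcH1Map g)) ∧
      Module.Projective S' (LinearMap.ker (NLCx.bcH1Map g)) := by
  have h1 : ∀ y ∈ LinearMap.ker (NLCx.bcH1Map g),
      bcH1Pre S' b y ∈ LinearMap.ker (NLCx.bcH1Map f) := by
    intro y hy
    rw [LinearMap.mem_ker] at hy ⊢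
    rw [← bcH1Map_comp_pre, Groth.Agent.Helper7.NLBC.bcH1Map_eq (f.comp b) (w'.comp g),
      Groth.Agent.Helper7.NLBC.bcH1Map_comp, hy, map_zero]
  have h2 : ∀ x ∈ LinearMap.ker (NLCx.bcH1Map f),
      bcH1Pre S' a x ∈ LinearMap.ker (NLCx.bcH1Map g) := by
    intro x hx
    rw [LinearMap.mem_ker] at hx ⊢
    rw [← bcH1Map_comp_pre, Groth.Agent.Helper7.NLBC.bcH1Map_eq (g.comp a) (w.comp f),
      Groth.Agent.Helper7.NLBC.bcH1Map_comp, hx, map_zero]
  let i : LinearMap.ker (NLCx.bcH1Map g) →ₗ[S'] LinearMap.ker (NLCx.bcH1Map f) :=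
    (bcH1Pre S' b).restrict h1
  let p : LinearMap.ker (NLCx.bcH1Map f) →ₗ[S'] LinearMap.ker (NLCx.bcH1Map g) :=
    (bcH1Pre S' a).restrict h2
  have hpi : p ∘ₗ i = LinearMap.id := by
    refine LinearMap.ext (fun y => Subtype.ext ?_)
    change bcH1Pre S' a (bcH1Pre S' b y.1) = y.1
    rw [← bcH1Pre_comp, bcH1Pre_eq S' (a.comp b) (Hom.id Q), bcH1Pre_id]
  have hps : Function.Surjective p := fun y => ⟨i y, congr($hpi y)⟩
  exact ⟨Module.Finite.of_surjective p hps, Module.Projective.of_split i p hpi⟩

end Pre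

end Groth.Agent.Lib.Helper5.NLKer
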