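import Mathlib
import Groth.Prelude.Def_SheafNL
import Groth.Agent.Lib.Helper7.NLBC.Main
import Groth.Agent.Lib.Helper5.NLKer.Pre

/-! helper5: same-variable presentations on an index type in `Type` (copies of helper7's lemmas,
which are stated for index types in `Type u`), and finiteness/projectivity of the kernel of
`bcH1Map` for them. -/

set_option linter.style.haveILetI false
set_option linter.unusedVariables false
set_option linter.unusedSectionVars false

open CategoryTheory CategoryTheory.Limits TensorProduct

namespace Groth.Agent.Lib.Helper5.NLKer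

universe u

section SameVars

open Algebra.Extension

variable (R S R' S' : Type u) [CommRing R] [CommRing S] [CommRing R'] [CommRing S']
  [Algebra R S] [Algebra R' S'] [Algebra R R'] [Algebra S S'] [Algebra R S']
  [IsScalarTower R R' S'] [IsScalarTower R S S']
  {ι : Type} (G : Algebra.Generators R S ι) (G' : Algebra.Generators R' S' ι)
  (h : ∀ i, G'.val i = algebraMap S S' (G.val i))

/-- The morphism of presentations sending each variable to the same variable. -/
noncomputable def svHom : G.Hom G' where
  val i := MvPolynomial.X i
  aeval_val i := by simp [h]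

theorem toRingHom_eq_map (x : MvPolynomial ι R) :
    (svHom R S R' S' G G' h).toExtensionHom.toRingHom x =
      MvPolynomial.map (algebraMap R R') x := by
  change MvPolynomial.aeval (fun i => (MvPolynomial.X i : MvPolynomial ι R')) x = _
  induction x using MvPolynomial.induction_on with
  | C a =>
    rw [MvPolynomial.aeval_C, MvPolynomial.map_C,
      IsScalarTower.algebraMap_apply R R' (MvPolynomial ι R'), MvPolynomial.algebraMap_eq]
  | add p q hp hq => rw [map_add, map_add, hp, hq]
  | mul_X p i hp => rw [map_mul, map_mul, hp, MvPolynomial.aeval_X, MvPolynomial.map_X]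

theorem liftBaseChange_cotangentSpace_bijective :
    Function.Bijective (LinearMap.liftBaseChange S'
      (CotangentSpace.map (svHom R S R' S' G G' h).toExtensionHom)) := by
  have e : LinearMap.liftBaseChange S'
      (CotangentSpace.map (svHom R S R' S' G G' h).toExtensionHom) =
      ((G.cotangentSpaceBasis.baseChange S').equiv G'.cotangentSpaceBasis
        (Equiv.refl ι)).toLinearMap := by
    refine (G.cotangentSpaceBasis.baseChange S').ext (fun i => ?_)
    rw [LinearEquiv.coe_coe, Module.Basis.equiv_apply, Equiv.refl_apply,
      Module.Basis.baseChange_apply, LinearMap.liftBaseChange_tmul, one_smul,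
      Algebra.Generators.cotangentSpaceBasis_apply, Algebra.Generators.cotangentSpaceBasis_apply]
    refine (CotangentSpace.map_tmul _ _ _).trans ?_
    rw [map_one]
    have e2 : (svHom R S R' S' G G' h).toExtensionHom.toAlgHom
        (MvPolynomial.X i : MvPolynomial ι R) = (MvPolynomial.X i : MvPolynomial ι R') := by
      rw [Algebra.Extension.Hom.toAlgHom_apply]
      exact (toRingHom_eq_map R S R' S' G G' h _).trans (MvPolynomial.map_X _ _)
    rw [e2]
    rfl
  rw [e]
  exact LinearEquiv.bijective _

attribute [local instance] MvPolynomial.algebraMvPolynomial in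
theorem ker_le_map [Algebra.IsPushout R R' S S'] :
    G'.toExtension.ker ≤
      G.toExtension.ker.map (svHom R S R' S' G G' h).toExtensionHom.toRingHom := by
  letI : Algebra G.Ring S' := ((algebraMap S S').comp (algebraMap G.Ring S)).toAlgebra
  haveI : IsScalarTower G.Ring S S' := IsScalarTower.of_algebraMap_eq' rfl
  haveI : IsScalarTower G.Ring G'.Ring S' := by
    refine IsScalarTower.of_algebraMap_eq (fun x => ?_)
    have := (svHom R S R' S' G G' h).toExtensionHom.algebraMap_toRingHom x
    rw [toRingHom_eq_map] at this
    exact this.symm
  haveI : Algebra.IsPushout R S R' S' := Algebra.IsPushout.symm inferInstance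
  haveI : Algebra.IsPushout G.Ring S G'.Ring S' :=
    (Algebra.IsPushout.comp_iff R G.Ring R' G'.Ring (T := S) (T' := S')).mp inferInstance
  have key := Groth.Agent.Helper7.NLBC.ker_le_map_of_isPushout G.Ring S G'.Ring S'
    G.algebraMap_surjective
  have e : (svHom R S R' S' G G' h).toExtensionHom.toRingHom = algebraMap G.Ring G'.Ring :=
    RingHom.ext (fun x => toRingHom_eq_map R S R' S' G G' h x)
  rw [e]
  exact key

/-- The kernel of `bcH1Map` for same-variable presentations with finite projective conormal
modules is finite projective. -/
theorem ker_sv_finite_projective [Algebra.IsPushout R R' S S']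
    [Module.Finite S G.toExtension.Cotangent] [Module.Projective S G.toExtension.Cotangent]
    [Module.Projective S' G'.toExtension.Cotangent] :
    Module.Finite S' (LinearMap.ker
        (NLCx.bcH1Map (svHom R S R' S' G G' h).toExtensionHom)) ∧
      Module.Projective S' (LinearMap.ker
        (NLCx.bcH1Map (svHom R S R' S' G G' h).toExtensionHom)) := by
  set f := (svHom R S R' S' G G' h).toExtensionHom with hf
  let α : S' ⊗[S] G.toExtension.Cotangent →ₗ[S'] G'.toExtension.Cotangent :=
    LinearMap.liftBaseChange S' (Cotangent.map f)
  have hα : Function.Surjective α :=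
    Groth.Agent.Helper7.NLBC.liftBaseChange_cotangent_surjective f (ker_le_map R S R' S' G G' h)
  obtain ⟨s, hs⟩ := Module.projective_lifting_property α LinearMap.id hα
  have hβ := (liftBaseChange_cotangentSpace_bijective R S R' S' G G' h).1
  have key : G'.toExtension.cotangentComplex ∘ₗ
        LinearMap.liftBaseChange S' (Cotangent.map f) =
      LinearMap.liftBaseChange S' (CotangentSpace.map f) ∘ₗ
        G.toExtension.cotangentComplex.baseChange S' := by
    ext y
    simpa using (CotangentSpace.map_cotangentComplex f y).symm
  -- elements killed by `α` lie in `bcH1`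
  have hmem : ∀ x, α x = 0 → x ∈ NLCx.bcH1 G.toExtension S' := by
    intro x hx
    rw [NLCx.bcH1, LinearMap.mem_ker]
    apply hβ
    have := congr($key x)
    simp only [LinearMap.coe_comp, Function.comp_apply] at this
    have hx' : LinearMap.liftBaseChange S' (Cotangent.map f) x = 0 := hx
    rw [← this, hx', map_zero, map_zero]
  let q : S' ⊗[S] G.toExtension.Cotangent →ₗ[S'] S' ⊗[S] G.toExtension.Cotangent :=
    LinearMap.id - s ∘ₗ α
  have hq : ∀ x, α (q x) = 0 := by
    intro x
    have := congr($hs (α x))
    simp only [LinearMap.coe_comp, Function.comp_apply, LinearMap.id_coe, id_eq] at this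
    simp only [q, LinearMap.sub_apply, LinearMap.id_coe, id_eq, LinearMap.coe_comp,
      Function.comp_apply, map_sub, this, sub_self]
  let q1 : S' ⊗[S] G.toExtension.Cotangent →ₗ[S'] NLCx.bcH1 G.toExtension S' :=
    q.codRestrict _ (fun x => hmem _ (hq x))
  have hq1 : ∀ x, q1 x ∈ LinearMap.ker (NLCx.bcH1Map f) := by
    intro x
    rw [LinearMap.mem_ker]
    apply Subtype.ext
    exact hq x
  let p : S' ⊗[S] G.toExtension.Cotangent →ₗ[S'] LinearMap.ker (NLCx.bcH1Map f) :=
    q1.codRestrict _ hq1
  let i : LinearMap.ker (NLCx.bcH1Map f) →ₗ[S'] S' ⊗[S] G.toExtension.Cotangent :=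
    (NLCx.bcH1 G.toExtension S').subtype ∘ₗ (LinearMap.ker (NLCx.bcH1Map f)).subtype
  have hpi : p ∘ₗ i = LinearMap.id := by
    refine LinearMap.ext (fun y => Subtype.ext (Subtype.ext ?_))
    change q y.1.1 = y.1.1
    have hy : α y.1.1 = 0 := by
      have := y.2
      rw [LinearMap.mem_ker] at this
      exact congrArg Subtype.val this
    simp only [q, LinearMap.sub_apply, LinearMap.id_coe, id_eq, LinearMap.coe_comp,
      Function.comp_apply, hy, map_zero, sub_zero]
  have hps : Function.Surjective p := fun y => ⟨i y, congr($hpi y)⟩
  exact ⟨Module.Finite.of_surjective p hps, Module.Projective.of_split i p hpi⟩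

end SameVars

end Groth.Agent.Lib.Helper5.NLKer
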