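import Mathlib
import Groth.Prelude.Def_SheafNL
import Groth.Prelude.Def_LCI2
import Groth.Agent.Lib.Helper7.NLBC.Main
import Groth.Agent.Lib.Helper3.NLLci
import Groth.Agent.S9269
import Groth.Agent.Lib.Helper5.NLKer.Pre
import Groth.Agent.Lib.Helper5.NLKer.SV

/-! helper5: the kernel of the base change map on `H^{-1}` of naive cotangent complexes for a
cocartesian square of lci ring maps is finite projective (S7223). -/

set_option linter.style.haveILetI false
set_option linter.unusedVariables false
set_option linter.unusedSectionVars false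

open CategoryTheory CategoryTheory.Limits TensorProduct

namespace Groth.Agent.Lib.Helper5.NLKer

universe u

open Algebra Algebra.Extension MvPolynomial

section Main

variable (A B A' B' : Type u) [CommRing A] [CommRing B]
    [CommRing A'] [CommRing B'] [Algebra A B] [Algebra A' B'] [Algebra A A'] [Algebra B B']
    [Algebra A B'] [IsScalarTower A A' B'] [IsScalarTower A B B'] [Algebra.IsPushout A A' B B']

include A in
theorem aeval_bc_surjective {ι : Type} (G : Generators A B ι) :
    Function.Surjective
      (MvPolynomial.aeval (R := A') (fun i : ι => algebraMap B B' (G.val i))) := by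
  have hbc : IsBaseChange A' (IsScalarTower.toAlgHom A B B').toLinearMap :=
    Algebra.IsPushout.out
  intro x
  refine hbc.inductionOn x _ ⟨0, map_zero _⟩ ?_ ?_ ?_
  · intro b
    obtain ⟨p, rfl⟩ := G.aeval_val_surjective b
    refine ⟨MvPolynomial.map (algebraMap A A') p, ?_⟩
    exact (MvPolynomial.aeval_map_algebraMap A' _ p).trans
      (MvPolynomial.aeval_algebraMap_apply B' G.val p)
  · rintro r _ ⟨p, rfl⟩
    exact ⟨r • p, by rw [map_smul]⟩
  · rintro _ _ ⟨p, rfl⟩ ⟨q, rfl⟩
    exact ⟨p + q, map_add _ _ _⟩

theorem ker_toExtension {R S : Type u} [CommRing R] [CommRing S] [Algebra R S] {n : ℕ}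
    (G : Generators R S (Fin n)) :
    G.toExtension.ker = RingHom.ker (MvPolynomial.aeval (R := R) G.val).toRingHom := by
  ext p
  simp only [RingHom.mem_ker]
  have h1 : algebraMap G.toExtension.Ring S p = MvPolynomial.aeval G.val p :=
    Generators.algebraMap_apply G p
  rw [h1]
  rfl

theorem cotangent_of_kr {R S : Type u} [CommRing R] [CommRing S] [Algebra R S] {n : ℕ}
    (G : Generators R S (Fin n)) (hI : LCI.IsKoszulRegularIdeal G.toExtension.ker) :
    Module.Finite S G.toExtension.Cotangent ∧ Module.Projective S G.toExtension.Cotangent := by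
  have hqr := Groth.Agent.Helper3.NLLci.isLocallyQuasiRegular_of_kr _ hI
  have hfg : G.toExtension.ker.FG := Groth.Agent.Helper8.QRLoc.fg_of_isLocallyQuasiRegular hqr
  have hproj := Groth.Agent.Helper8.QRLoc.projective_of_isLocallyQuasiRegular hqr
  exact ⟨Groth.Agent.Helper3.NLLci.finite_cotangent _ hfg,
    Groth.Agent.Helper3.NLLci.projective_cotangent _ hproj⟩

theorem main (hB : LCI.IsLCI A B) (hB' : LCI.IsLCI A' B') :
    Module.Finite B' (LinearMap.ker (NLCx.bcH1Map
        ((Algebra.Generators.self A B).defaultHom (Algebra.Generators.self A' B')).toExtensionHom)) ∧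
      Module.Projective B' (LinearMap.ker (NLCx.bcH1Map
        ((Algebra.Generators.self A B).defaultHom
          (Algebra.Generators.self A' B')).toExtensionHom)) := by
  obtain ⟨-, n, φ, hφ, hI⟩ := hB
  obtain ⟨-, m, ψ, hψ, hI'⟩ := hB'
  have hae : (MvPolynomial.aeval (fun i => φ (X i)) : MvPolynomial (Fin n) A →ₐ[A] B) = φ := by
    apply MvPolynomial.algHom_ext
    intro i
    simp
  let G : Generators A B (Fin n) :=
    Generators.ofSurjective (fun i => φ (X i)) (by rw [hae]; exact hφ)
  have hGval : (MvPolynomial.aeval (R := A) G.val : MvPolynomial (Fin n) A →ₐ[A] B) = φ := hae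
  have hkr : LCI.IsKoszulRegularIdeal G.toExtension.ker := by
    rw [ker_toExtension G, hGval]
    exact hI
  let G' : Generators A' B' (Fin n) :=
    Generators.ofSurjective (fun i => algebraMap B B' (G.val i))
      (aeval_bc_surjective A B A' B' G)
  have hG' : ∀ i, G'.val i = algebraMap B B' (G.val i) := fun i => rfl
  have hkr' : LCI.IsKoszulRegularIdeal G'.toExtension.ker := by
    rw [ker_toExtension G']
    exact Groth.Agent.S9269.result A' B' m n ψ hψ (MvPolynomial.aeval (R := A') G'.val)
      G'.aeval_val_surjective hI'
  obtain ⟨hF, hP⟩ := cotangent_of_kr G hkr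
  obtain ⟨hF', hP'⟩ := cotangent_of_kr G' hkr'
  obtain ⟨hKF, hKP⟩ := ker_sv_finite_projective A B A' B' G G' hG'
  exact transfer (svHom A B A' B' G G' hG').toExtensionHom
    ((Algebra.Generators.self A B).defaultHom (Algebra.Generators.self A' B')).toExtensionHom
    (G.defaultHom (Generators.self A B)).toExtensionHom
    ((Generators.self A B).defaultHom G).toExtensionHom
    (G'.defaultHom (Generators.self A' B')).toExtensionHom
    ((Generators.self A' B').defaultHom G').toExtensionHom

end Main

end Groth.Agent.Lib.Helper5.NLKer
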